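/-
The Noether different: support, and the pairing with `Hom_A(B, A)` for finite free algebras.
-/
import Groth.Prelude.Def_Disc
import Mathlib.RingTheory.Kaehler.Basic
import Mathlib.RingTheory.Unramified.Locus
import Mathlib.RingTheory.Nakayama
import Mathlib.RingTheory.Trace.Basic
import Mathlib.RingTheory.Norm.Basic
import Mathlib.RingTheory.Discriminant
import Mathlib.RingTheory.PicardGroup
import Mathlib.LinearAlgebra.Matrix.Basis

open TensorProduct KaehlerDifferential

universe u v

namespace Groth.Agent.NoetherDiff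

variable {A : Type u} {B : Type v} [CommRing A] [CommRing B] [Algebra A B]

local notation "μ" => Algebra.TensorProduct.lmul' (S := B) A

theorem mem_iff {b : B} :
    b ∈ Disc.noetherDifferent A B ↔
      ∃ z ∈ (KaehlerDifferential.ideal A B).annihilator, μ z = b := by
  rw [Disc.noetherDifferent, Ideal.mem_map_iff_of_surjective]
  exact fun b => ⟨b ⊗ₜ 1, by simp⟩

theorem mem_ann_iff {z : B ⊗[A] B} :
    z ∈ (KaehlerDifferential.ideal A B).annihilator ↔
      ∀ b : B, z * (b ⊗ₜ 1) = z * ((1 : B) ⊗ₜ b) := by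
  constructor
  · intro h b
    have := Submodule.mem_annihilator.1 h _ (one_smul_sub_smul_one_mem_ideal A b)
    rw [smul_eq_mul, mul_sub, sub_eq_zero] at this
    exact this.symm
  · intro h
    rw [Submodule.mem_annihilator, ← KaehlerDifferential.span_range_eq_ideal]
    intro x hx
    refine Submodule.span_induction (fun y hy => ?_) (smul_zero _) (fun a b _ _ ha hb => ?_)
      (fun r a _ ha => ?_) hx
    · obtain ⟨b, rfl⟩ := hy
      rw [smul_eq_mul, mul_sub, h b, sub_self]
    · rw [smul_add, ha, hb, add_zero]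
    · rw [smul_comm, ha, smul_zero]

theorem algebraMap_mul_cotangent (b : B) (x : KaehlerDifferential.ideal A B) :
    b • (KaehlerDifferential.ideal A B).toCotangent x =
      (KaehlerDifferential.ideal A B).toCotangent
        ⟨(b ⊗ₜ[A] (1 : B)) * x.1, Ideal.mul_mem_left _ _ x.2⟩ := by
  have h1 : (⟨(b ⊗ₜ[A] (1 : B)) * x.1, Ideal.mul_mem_left _ _ x.2⟩ : KaehlerDifferential.ideal A B) =
      b • x := Subtype.ext (Algebra.smul_def b x.1).symm
  rw [h1]
  exact ((KaehlerDifferential.ideal A B).toCotangent.map_smul_of_tower b x).symm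

theorem le_iff_not_isUnramifiedAt [Algebra.FiniteType A B] (q : Ideal B) [hq : q.IsPrime] :
    Disc.noetherDifferent A B ≤ q ↔ ¬Algebra.IsUnramifiedAt A q := by
  let p : PrimeSpectrum B := ⟨q, hq⟩
  have hU : Algebra.IsUnramifiedAt A q ↔
      ∀ w : Ω[B⁄A], ∃ r ∉ q, r • w = 0 := by
    have h := Set.ext_iff.1 (Algebra.unramifiedLocus_eq_compl_support (R := A) (A := B)) p
    exact h.trans Module.notMem_support_iff'
  let I := KaehlerDifferential.ideal A B
  rw [← not_iff_not, not_not, hU]
  constructor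
  · intro h w
    obtain ⟨b, hb, hbq⟩ := SetLike.not_le_iff_exists.1 h
    obtain ⟨z, hz, rfl⟩ := mem_iff.1 hb
    refine ⟨μ z, hbq, ?_⟩
    obtain ⟨x, rfl⟩ := I.toCotangent_surjective w
    refine (algebraMap_mul_cotangent _ x).trans ((Ideal.toCotangent_eq_zero _ _).2 ?_)
    have hi : (μ z) ⊗ₜ[A] (1 : B) - z ∈ I := by simp [I, RingHom.mem_ker]
    have hzx : z * x.1 = 0 := Submodule.mem_annihilator.1 hz _ x.2
    have : (μ z) ⊗ₜ[A] (1 : B) * x.1 = ((μ z) ⊗ₜ[A] (1 : B) - z) * x.1 := by
      rw [sub_mul, hzx, sub_zero]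
    show _ ∈ I ^ 2
    dsimp only
    rw [this, pow_two]
    exact Ideal.mul_mem_mul hi x.2
  · intro h
    have : (q.comap (μ).toRingHom).IsPrime := hq.comap _
    let q' : Ideal (B ⊗[A] B) := q.comap (μ).toRingHom
    let L := Localization.AtPrime q'
    let J : Ideal L := I.map (algebraMap (B ⊗[A] B) L)
    have hJ : J ≤ J • J := by
      rw [Ideal.map_le_iff_le_comap]
      intro x hx
      obtain ⟨r, hr, hrx⟩ := h (I.toCotangent ⟨x, hx⟩)
      replace hrx := (Ideal.toCotangent_eq_zero _ _).1 ((algebraMap_mul_cotangent r ⟨x, hx⟩).symm.trans hrx)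
      have hu : IsUnit (algebraMap (B ⊗[A] B) L (r ⊗ₜ[A] (1 : B))) :=
        IsLocalization.map_units L (⟨r ⊗ₜ[A] (1 : B), by
          simpa [q', Ideal.primeCompl] using hr⟩ : q'.primeCompl)
      rw [Ideal.mem_comap, smul_eq_mul, ← Ideal.unit_mul_mem_iff_mem _ hu, ← map_mul]
      have := Ideal.mem_map_of_mem (algebraMap (B ⊗[A] B) L) hrx
      rwa [Ideal.map_pow, pow_two] at this
    have hfg : J.FG := (KaehlerDifferential.ideal_fg A B).map _
    have hle : I ≤ q' := fun x hx => by
      simp only [q', Ideal.mem_comap]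
      change (μ) x ∈ q
      rw [show (μ) x = 0 from hx]
      exact q.zero_mem
    have hJ0 : J = ⊥ := Submodule.eq_bot_of_le_smul_of_le_jacobson_bot J J hfg hJ (by
      rw [IsLocalRing.jacobson_eq_maximalIdeal ⊥ bot_ne_top,
        ← IsLocalization.AtPrime.map_eq_maximalIdeal q' L]
      exact Ideal.map_mono hle)
    classical
    obtain ⟨s, hs⟩ := KaehlerDifferential.ideal_fg A B
    have hx : ∀ x : s, ∃ c : q'.primeCompl, (c : B ⊗[A] B) * x = 0 := fun x =>
      (IsLocalization.map_eq_zero_iff q'.primeCompl L _).1 (by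
        have : algebraMap (B ⊗[A] B) L x ∈ J :=
          Ideal.mem_map_of_mem _ (hs.le (Ideal.subset_span x.2))
        rwa [hJ0, Ideal.mem_bot] at this)
    choose c hc using hx
    let t : q'.primeCompl := ∏ x : s, c x
    have ht : (t : B ⊗[A] B) ∈ I.annihilator := by
      rw [show I = Submodule.span (B ⊗[A] B) (s : Set (B ⊗[A] B)) from hs.symm,
        Submodule.mem_annihilator_span]
      intro x
      obtain ⟨w, hw⟩ := Finset.dvd_prod_of_mem c (Finset.mem_univ (⟨x.1, x.2⟩ : s))
      rw [smul_eq_mul, show t = c ⟨x.1, x.2⟩ * w from hw, Submonoid.coe_mul, mul_right_comm,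
        hc ⟨x.1, x.2⟩, zero_mul]
    intro hle'
    exact t.2 (hle' (mem_iff.2 ⟨_, ht, rfl⟩))

/-- Evaluation of an element of `B ⊗ B` on a functional. -/
noncomputable def pair (l : Disc.Omega A B) : B ⊗[A] B →ₗ[A] B :=
  TensorProduct.lift ((LinearMap.lsmul A B).comp l.toLinearMap)

theorem pair_tmul (l : Disc.Omega A B) (a c : B) : pair l (a ⊗ₜ c) = l.toLinearMap a • c := rfl

theorem pair_mul_right (l : Disc.Omega A B) (z : B ⊗[A] B) (x : B) :
    pair l (z * ((1 : B) ⊗ₜ x)) = pair l z * x := by
  induction z using TensorProduct.induction_on with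
  | zero => simp
  | tmul a c => simp [pair_tmul]
  | add y y' h h' => rw [add_mul, map_add, map_add, h, h', add_mul]

theorem pair_mul_left (l : Disc.Omega A B) (z : B ⊗[A] B) (x : B) :
    pair l (z * (x ⊗ₜ (1 : B))) = pair (x • l) z := by
  induction z using TensorProduct.induction_on with
  | zero => simp
  | tmul a c => simp [pair_tmul, mul_comm x a]
  | add y y' h h' => rw [add_mul, map_add, map_add, h, h']

/-- The `B`-linear map on `ω` given by an annihilator element. -/
noncomputable def toPhi (z : B ⊗[A] B) (hz : z ∈ (KaehlerDifferential.ideal A B).annihilator) :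
    Disc.Omega A B →ₗ[B] B where
  toFun l := pair l z
  map_add' l l' := by
    induction z using TensorProduct.induction_on with
    | zero => simp
    | tmul a c => simp [pair_tmul, add_smul]
    | add y y' _ _ =>
      have : pair (l + l') = pair l + pair l' := TensorProduct.ext' fun a c => by
        simp [pair_tmul, add_smul]
      rw [this]; rfl
  map_smul' x l := by
    rw [← pair_mul_left, mem_ann_iff.1 hz, pair_mul_right, RingHom.id_apply, smul_eq_mul, mul_comm]

variable {ι : Type*} [Fintype ι] (e : Module.Basis ι A B)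

/-- The coordinate functional. -/
noncomputable def coordΩ (k : ι) : Disc.Omega A B := ⟨e.coord k⟩

theorem eq_sum_coord (l : Disc.Omega A B) :
    l = ∑ k, algebraMap A B (l.toLinearMap (e k)) • coordΩ e k := by
  classical
  have hsum : ∀ (f : ι → Disc.Omega A B) (x : B),
      (∑ k, f k).toLinearMap x = ∑ k, (f k).toLinearMap x := fun f x =>
    map_sum (⟨⟨fun l : Disc.Omega A B => l.toLinearMap x, rfl⟩, fun _ _ => rfl⟩ :
      Disc.Omega A B →+ A) f Finset.univ
  refine Disc.Omega.ext (e.ext fun j => ?_)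
  rw [hsum]
  simp [coordΩ, ← Algebra.smul_def, Finsupp.single_apply]

theorem sum_tmul_pair (z : B ⊗[A] B) : ∑ k, e k ⊗ₜ[A] pair (coordΩ e k) z = z := by
  induction z using TensorProduct.induction_on with
  | zero => simp
  | tmul a c =>
    simp only [pair_tmul, coordΩ, ← TensorProduct.smul_tmul, ← TensorProduct.sum_tmul,
      Module.Basis.coord_apply, e.sum_repr]
  | add y y' h h' => simp only [map_add, TensorProduct.tmul_add, Finset.sum_add_distrib, h, h']

/-- The element attached to a linear map. -/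
noncomputable def ofPhi (Φ : Disc.Omega A B →ₗ[B] B) : B ⊗[A] B :=
  ∑ k, e k ⊗ₜ[A] Φ (coordΩ e k)

theorem pair_ofPhi (Φ : Disc.Omega A B →ₗ[B] B) (l : Disc.Omega A B) :
    pair l (ofPhi e Φ) = Φ l := by
  conv_rhs => rw [eq_sum_coord e l]
  simp [ofPhi, pair_tmul, Algebra.smul_def]

include e in
theorem eq_of_pair {z z' : B ⊗[A] B} (h : ∀ l, pair l z = pair l z') : z = z' := by
  rw [← sum_tmul_pair e z, ← sum_tmul_pair e z']
  simp [h]

theorem ofPhi_mem (Φ : Disc.Omega A B →ₗ[B] B) :
    ofPhi e Φ ∈ (KaehlerDifferential.ideal A B).annihilator := by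
  refine mem_ann_iff.2 fun b => eq_of_pair e fun l => ?_
  rw [pair_mul_left, pair_mul_right, pair_ofPhi, pair_ofPhi, map_smul, smul_eq_mul, mul_comm]

include e in
theorem trace_apply (x : B) : Algebra.trace A B x = ∑ k, e.coord k (x * e k) := by
  classical
  rw [Algebra.trace_eq_matrix_trace e, Matrix.trace]
  simp [Algebra.leftMulMatrix_eq_repr_mul]

variable [Module.Free A B] [Module.Finite A B]

include e in
theorem trace_eq_sum : Disc.Omega.trace A B = ∑ k, e k • coordΩ e k := by
  classical
  have hsum : ∀ (f : ι → Disc.Omega A B) (x : B),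
      (∑ k, f k).toLinearMap x = ∑ k, (f k).toLinearMap x := fun f x =>
    map_sum (⟨⟨fun l : Disc.Omega A B => l.toLinearMap x, rfl⟩, fun _ _ => rfl⟩ :
      Disc.Omega A B →+ A) f Finset.univ
  refine Disc.Omega.ext (LinearMap.ext fun x => ?_)
  rw [hsum]
  change Algebra.trace A B x = _
  rw [trace_apply e x]
  simp [coordΩ, mul_comm]

include e in
theorem toPhi_trace (z : B ⊗[A] B) (hz : z ∈ (KaehlerDifferential.ideal A B).annihilator) :
    toPhi z hz (Disc.Omega.trace A B) = μ z := by
  conv_rhs => rw [← sum_tmul_pair e z]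
  simp [trace_eq_sum e, toPhi]

include e in
theorem lmul_smul_eq (z : B ⊗[A] B) (hz : z ∈ (KaehlerDifferential.ideal A B).annihilator)
    (ψ : Disc.Omega A B) : μ z • ψ = toPhi z hz ψ • Disc.Omega.trace A B := by
  refine Disc.Omega.ext (LinearMap.ext fun x => ?_)
  let w := z * ((1 : B) ⊗ₜ[A] x)
  have hw : w ∈ (KaehlerDifferential.ideal A B).annihilator := Ideal.mul_mem_right _ _ hz
  change ψ.toLinearMap (μ z * x) = Algebra.trace A B (pair ψ z * x)
  rw [← pair_mul_right, show μ z * x = μ w by simp [w], trace_apply e,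
    show z * ((1 : B) ⊗ₜ[A] x) = w from rfl]
  simp only [← pair_mul_right, ← mem_ann_iff.1 hw, pair_mul_left]
  conv_lhs => rw [← sum_tmul_pair e w]
  conv_rhs => rw [← sum_tmul_pair e w]
  simp only [map_sum, Algebra.TensorProduct.lmul'_apply_tmul, pair_tmul,
    Disc.Omega.smul_toLinearMap_apply, map_smul, Module.Basis.coord_apply, smul_eq_mul,
    Finsupp.smul_apply, Finsupp.finsetSum_apply]
  rw [Finset.sum_comm]
  refine Finset.sum_congr rfl fun j _ => ?_
  conv_lhs => rw [← e.sum_repr (pair (coordΩ e j) w), Finset.mul_sum, map_sum]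
  refine Finset.sum_congr rfl fun k _ => ?_
  rw [mul_smul_comm, map_smul, smul_eq_mul, mul_comm (e k), mul_comm]

omit [Fintype ι] in
theorem noetherDifferent_eq_range :
    (Disc.noetherDifferent A B : Set B) =
      Set.range fun φ : Disc.Omega A B →ₗ[B] B => φ (Disc.Omega.trace A B) := by
  let e := Module.Free.chooseBasis A B
  ext b
  constructor
  · rintro hb
    obtain ⟨z, hz, rfl⟩ := mem_iff.1 hb
    exact ⟨toPhi z hz, toPhi_trace e z hz⟩
  · rintro ⟨Φ, rfl⟩
    refine mem_iff.2 ⟨ofPhi e Φ, ofPhi_mem e Φ, ?_⟩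
    rw [← toPhi_trace e _ (ofPhi_mem e Φ)]
    exact pair_ofPhi e Φ _

omit [Fintype ι] in
theorem existsUnique_pair (Φ : Disc.Omega A B →ₗ[B] B) :
    ∃! ξ : B ⊗[A] B, ξ ∈ (KaehlerDifferential.ideal A B).annihilator ∧ ∀ l, Φ l = pair l ξ := by
  let e := Module.Free.chooseBasis A B
  exact ⟨ofPhi e Φ, ⟨ofPhi_mem e Φ, fun l => (pair_ofPhi e Φ l).symm⟩,
    fun z hz => eq_of_pair e fun l => (hz.2 l).symm.trans (pair_ofPhi e Φ l).symm⟩

omit [Fintype ι] in
theorem mem_differentSet_iff (b : B) :
    b ∈ Disc.differentSet A B ↔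
      ∀ ψ : Disc.Omega A B, ∃ c : B, b • ψ = c • Disc.Omega.trace A B := by
  constructor
  · intro h ψ
    obtain ⟨c, hc⟩ := h ψ.toLinearMap
    exact ⟨c, Disc.Omega.ext (LinearMap.ext fun x => hc x)⟩
  · intro h φ
    obtain ⟨c, hc⟩ := h ⟨φ⟩
    exact ⟨c, fun x => LinearMap.congr_fun (congrArg Disc.Omega.toLinearMap hc) x⟩

omit [Fintype ι] in
theorem noetherDifferent_subset_differentSet :
    (Disc.noetherDifferent A B : Set B) ⊆ Disc.differentSet A B := by
  intro b hb
  obtain ⟨z, hz, rfl⟩ := mem_iff.1 hb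
  exact (mem_differentSet_iff _).2 fun ψ =>
    ⟨_, lmul_smul_eq (Module.Free.chooseBasis A B) z hz ψ⟩

omit [Fintype ι] in
theorem sq_mem_of_mem_differentSet {b : B} (hb : b ∈ Disc.differentSet A B) :
    b * b ∈ Disc.noetherDifferent A B := by
  classical
  let e := Module.Free.chooseBasis A B
  choose c hc using (mem_differentSet_iff b).1 hb
  have hkill : ∀ d : B, d • Disc.Omega.trace A B = 0 → b * d = 0 := by
    intro d hd
    refine e.ext_elem fun k => ?_
    have h : d • b • coordΩ e k = 0 := by rw [hc, smul_comm, hd, smul_zero]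
    simpa [coordΩ, mul_comm] using congrArg (fun l : Disc.Omega A B => l.toLinearMap 1) h
  let Φ : Disc.Omega A B →ₗ[B] B :=
    { toFun := fun ψ => b * c ψ
      map_add' := fun ψ ψ' => by
        rw [← mul_add, ← sub_eq_zero, ← mul_sub]
        refine hkill _ ?_
        rw [sub_smul, add_smul, ← hc, ← hc, ← hc, smul_add, sub_self]
      map_smul' := fun x ψ => by
        rw [RingHom.id_apply, smul_eq_mul, mul_left_comm, ← sub_eq_zero, ← mul_sub]
        refine hkill _ ?_
        rw [sub_smul, mul_smul, ← hc, ← hc, smul_comm, sub_self] }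
  have hΦ : Φ (Disc.Omega.trace A B) = b * b := by
    change b * c (Disc.Omega.trace A B) = b * b
    rw [← sub_eq_zero, ← mul_sub]
    refine hkill _ ?_
    rw [sub_smul, ← hc, sub_self]
  rw [← hΦ]
  exact (Set.ext_iff.1 noetherDifferent_eq_range _).2 ⟨Φ, rfl⟩

omit [Fintype ι] in
theorem differentSet_subset_noetherDifferent [Module.Invertible B (Disc.Omega A B)] :
    Disc.differentSet A B ⊆ (Disc.noetherDifferent A B : Set B) := by
  intro b hb
  obtain ⟨t, ht⟩ := (Module.Invertible.bijective (R := B) (M := Disc.Omega A B)).2 1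
  suffices h : ∀ t : Module.Dual B (Disc.Omega A B) ⊗[B] Disc.Omega A B,
      b * contractLeft B (Disc.Omega A B) t ∈ Disc.noetherDifferent A B by
    simpa [ht] using h t
  intro t
  induction t using TensorProduct.induction_on with
  | zero => simp
  | tmul φ ψ =>
    obtain ⟨c, hc⟩ := (mem_differentSet_iff b).1 hb ψ
    rw [contractLeft_apply, ← smul_eq_mul, ← map_smul, hc, map_smul]
    exact Ideal.mul_mem_left _ _ ((Set.ext_iff.1 noetherDifferent_eq_range _).2 ⟨φ, rfl⟩)
  | add y y' h h' => rw [map_add, mul_add]; exact Ideal.add_mem _ h h'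

omit [Module.Free A B] [Module.Finite A B] in
theorem norm_mem_span_discr [DecidableEq ι] {x : B} (hx : x ∈ Disc.differentSet A B) :
    Algebra.norm A x ∈ Ideal.span {Algebra.discr A e} := by
  choose c hc using fun k => hx (e.coord k)
  have h : Algebra.leftMulMatrix e x =
      Matrix.of (fun k i => e.repr (c k) i) * Algebra.traceMatrix A e := by
    ext k j
    rw [Algebra.leftMulMatrix_eq_repr_mul, Matrix.mul_apply]
    refine (hc k (e j)).trans ?_
    conv_lhs => rw [← e.sum_repr (c k), Finset.sum_mul, map_sum]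
    refine Finset.sum_congr rfl fun i _ => ?_
    simp [Algebra.traceMatrix_apply, Algebra.traceForm_apply]
  rw [Algebra.norm_eq_matrix_det e, h, Matrix.det_mul, Algebra.discr_def]
  exact Ideal.mul_mem_left _ _ (Ideal.mem_span_singleton_self _)

end Groth.Agent.NoetherDiff
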