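/-
The Noether different and flat maps.
-/
import Groth.Agent.NoetherDiff.Basic
import Mathlib.RingTheory.RingHom.Flat
import Mathlib.RingTheory.Flat.Stability
import Mathlib.LinearAlgebra.TensorProduct.Pi
import Mathlib.RingTheory.Kaehler.Basic
import Mathlib.RingTheory.IsTensorProduct

open TensorProduct

universe u

namespace Groth.Agent.NoetherDiff

/-- Annihilators of finitely generated ideals commute with flat maps. -/
theorem annihilator_map_of_flat {R S : Type u} [CommRing R] [CommRing S] (θ : R →+* S) (hθ : θ.Flat)
    (I : Ideal R) (hI : I.FG) :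
    (I.map θ).annihilator = I.annihilator.map θ := by
  classical
  letI := θ.toAlgebra
  have : Module.Flat R S := hθ
  obtain ⟨m, g, hg⟩ := Submodule.fg_iff_exists_fin_generating_family.1 hI
  refine le_antisymm (fun s hs => ?_) ?_
  · let ψ : R →ₗ[R] (Fin m → R) := LinearMap.pi fun i => LinearMap.mulRight R (g i)
    have hex := Module.Flat.lTensor_exact S (LinearMap.exact_subtype_ker_map ψ)
    have h0 : ψ.lTensor S (s ⊗ₜ (1 : R)) = 0 := by
      apply (TensorProduct.piScalarRight R R S (Fin m)).injective
      rw [map_zero, LinearMap.lTensor_tmul, piScalarRight_apply, piScalarRightHom_tmul]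
      funext i
      have hgi : g i ∈ I := hg ▸ Submodule.subset_span (Set.mem_range_self i)
      have := Submodule.mem_annihilator.1 hs _ (Ideal.mem_map_of_mem θ hgi)
      simpa [ψ, Algebra.smul_def, RingHom.algebraMap_toAlgebra, mul_comm] using this
    obtain ⟨w, hw⟩ := (hex _).1 h0
    have hs' : s = TensorProduct.rid R S ((LinearMap.ker ψ).subtype.lTensor S w) := by
      rw [hw, TensorProduct.rid_tmul, one_smul]
    rw [hs']
    clear hs' hw h0 hs
    induction w using TensorProduct.induction_on with
    | zero => simp
    | tmul c a =>
      rw [LinearMap.lTensor_tmul, TensorProduct.rid_tmul, Algebra.smul_def]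
      refine Ideal.mul_mem_right _ _ (Ideal.mem_map_of_mem θ (Submodule.mem_annihilator.2 fun x hx => ?_))
      rw [← hg] at hx
      induction hx using Submodule.span_induction with
      | mem x hx =>
        obtain ⟨i, rfl⟩ := hx
        exact congrFun a.2 i
      | zero => exact smul_zero _
      | add x y _ _ h h' => rw [smul_add, h, h', add_zero]
      | smul r x _ h => rw [smul_comm, h, smul_zero]
    | add a b ha hb => rw [map_add, map_add]; exact Submodule.add_mem _ ha hb
  · refine Ideal.map_le_iff_le_comap.2 fun r hr => Submodule.mem_annihilator.2 fun x hx => ?_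
    induction hx using Submodule.span_induction with
    | mem x hx =>
      obtain ⟨y, hy, rfl⟩ := hx
      rw [smul_eq_mul, ← map_mul, show r * y = 0 from Submodule.mem_annihilator.1 hr y hy, map_zero]
    | zero => exact smul_zero _
    | add x y _ _ h h' => rw [smul_add, h, h', add_zero]
    | smul r x _ h => rw [smul_comm, h, smul_zero]

/-- The Noether different along a flat map of diagonals. -/
theorem noetherDifferent_map {A B A' B' : Type u} [CommRing A] [CommRing B] [CommRing A']
    [CommRing B'] [Algebra A B] [Algebra A' B'] [Algebra.EssFiniteType A B] (f : B →+* B')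
    (θ : B ⊗[A] B →+* B' ⊗[A'] B') (hθ : θ.Flat)
    (hcomm : ∀ z, Algebra.TensorProduct.lmul' A' (θ z) = f (Algebra.TensorProduct.lmul' A z))
    (hker : KaehlerDifferential.ideal A' B' ≤ (KaehlerDifferential.ideal A B).map θ) :
    Disc.noetherDifferent A' B' = (Disc.noetherDifferent A B).map f := by
  have he : KaehlerDifferential.ideal A' B' = (KaehlerDifferential.ideal A B).map θ := by
    refine le_antisymm hker (Ideal.map_le_iff_le_comap.2 fun z hz => ?_)
    change Algebra.TensorProduct.lmul' A' (θ z) = 0
    rw [hcomm, show Algebra.TensorProduct.lmul' A z = 0 from hz, map_zero]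
  have hann : (KaehlerDifferential.ideal A' B').annihilator =
      (KaehlerDifferential.ideal A B).annihilator.map θ := by
    rw [he]
    exact annihilator_map_of_flat θ hθ _ (KaehlerDifferential.ideal_fg A B)
  change ((KaehlerDifferential.ideal A' B').annihilator).map
      (Algebra.TensorProduct.lmul' (S := B') A').toRingHom =
    (((KaehlerDifferential.ideal A B).annihilator).map
      (Algebra.TensorProduct.lmul' (S := B) A).toRingHom).map f
  rw [hann, Ideal.map_map, Ideal.map_map]
  congr 1
  exact RingHom.ext hcomm

end Groth.Agent.NoetherDiff
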