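/-
Tate's trace: for `B = A[x]/(f)` finite free with as many equations as variables, the Jacobian
determinant goes to the trace under an isomorphism `B ≅ Hom_A(B, A)`.
-/
import Groth.Agent.NoetherDiff.Basic
import Groth.Agent.KoszulWiebe.Regular
import Mathlib.Algebra.MvPolynomial.PDeriv
import Mathlib.LinearAlgebra.Matrix.Adjugate
import Mathlib.LinearAlgebra.Matrix.ToLinearEquiv
import Mathlib.RingTheory.Finiteness.Quotient

open TensorProduct MvPolynomial

universe u

namespace Groth.Agent.NoetherDiff.GCI

variable {A B : Type u} [CommRing A] [CommRing B] [Algebra A B] {n : ℕ}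
  (b : Fin n → B)

theorem exists_decomp (p : (MvPolynomial (Fin n) B)) : ∃ c : Fin n → (MvPolynomial (Fin n) B),
    p = C (eval b p) + ∑ j, c j * (X j - C (b j)) := by
  classical
  induction p using MvPolynomial.induction_on with
  | C r => exact ⟨0, by simp⟩
  | add p q hp hq =>
    obtain ⟨c, hc⟩ := hp
    obtain ⟨d, hd⟩ := hq
    refine ⟨c + d, ?_⟩
    conv_lhs => rw [hc, hd]
    simp only [map_add, Pi.add_apply, add_mul, Finset.sum_add_distrib]
    ring
  | mul_X p i hp =>
    obtain ⟨c, hc⟩ := hp
    refine ⟨fun j => c j * X i + if j = i then C (eval b p) else 0, ?_⟩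
    conv_lhs => rw [hc]
    simp only [map_mul, eval_X, add_mul, Finset.sum_add_distrib, ite_mul, zero_mul,
      Finset.sum_ite_eq', Finset.mem_univ, if_true, Finset.sum_mul, mul_right_comm _ (X i)]
    ring

/-- `B[x] → B ⊗ B`, constants on the left, variables on the right. -/
noncomputable def q : (MvPolynomial (Fin n) B) →+* B ⊗[A] B :=
  eval₂Hom (Algebra.TensorProduct.includeLeftRingHom : B →+* B ⊗[A] B) fun j => (1 : B) ⊗ₜ[A] b j

theorem q_C (r : B) : q (A := A) b (C r) = r ⊗ₜ[A] (1 : B) := by simp [q]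

theorem q_X (i : Fin n) : q (A := A) b (X i) = (1 : B) ⊗ₜ[A] b i := by simp [q]

theorem q_map (p : MvPolynomial (Fin n) A) :
    q b (map (algebraMap A B) p) = (1 : B) ⊗ₜ[A] aeval b p := by
  induction p using MvPolynomial.induction_on with
  | C r =>
    simp [q_C]
    rw [Algebra.algebraMap_eq_smul_one, TensorProduct.tmul_smul, TensorProduct.smul_tmul']
  | add p q hp hq => simp [hp, hq, TensorProduct.tmul_add]
  | mul_X p i hp => simp [hp, q_X, Algebra.TensorProduct.tmul_mul_tmul]

variable (f : Fin n → MvPolynomial (Fin n) A) (hf : ∀ i, aeval b (f i) = 0)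
  (C' : Matrix (Fin n) (Fin n) (MvPolynomial (Fin n) B))
  (hC : ∀ i, map (algebraMap A B) (f i) = ∑ j, C' i j * (X j - C (b j)))

/-- The determinant element. -/
noncomputable def ξ {A B : Type u} [CommRing A] [CommRing B] [Algebra A B] {n : ℕ}
    (b : Fin n → B) (C' : Matrix (Fin n) (Fin n) (MvPolynomial (Fin n) B)) : B ⊗[A] B :=
  q (A := A) b C'.det

include hf hC in
theorem ξ_mem (hb : Algebra.adjoin A (Set.range b) = ⊤) :
    ξ (A := A) b C' ∈ (KaehlerDifferential.ideal A B).annihilator := by
  refine mem_ann_iff.2 fun x => ?_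
  have hx : x ∈ Algebra.adjoin A (Set.range b) := hb ▸ Algebra.mem_top
  induction hx using Algebra.adjoin_induction with
  | mem x hx =>
    obtain ⟨j, rfl⟩ := hx
    have h : C'.det * (X j - C (b j)) =
        (C'.adjugate.mulVec fun i => map (algebraMap A B) (f i)) j := by
      rw [show (fun i => map (algebraMap A B) (f i)) = C'.mulVec (fun j => X j - C (b j)) from
        funext hC, Matrix.mulVec_mulVec, Matrix.adjugate_mul, Matrix.smul_mulVec, Matrix.one_mulVec]
      rfl
    have h2 := congrArg (q (A := A) b) h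
    simp only [Matrix.mulVec, dotProduct, map_sum] at h2
    rw [map_mul, map_sub] at h2
    simp only [map_mul, q_map, hf, TensorProduct.tmul_zero, mul_zero, Finset.sum_const_zero] at h2
    rw [mul_sub, sub_eq_zero] at h2
    simpa [ξ, q_C, q_X] using h2.symm
  | algebraMap r =>
    rw [Algebra.algebraMap_eq_smul_one, TensorProduct.smul_tmul]
  | add x y _ _ hx hy => rw [TensorProduct.add_tmul, TensorProduct.tmul_add, mul_add, mul_add, hx, hy]
  | mul x y _ _ hx hy =>
    have hl : (x * y) ⊗ₜ[A] (1 : B) = (x ⊗ₜ 1) * (y ⊗ₜ 1) := by simp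
    have hr : (1 : B) ⊗ₜ[A] (x * y) = ((1 : B) ⊗ₜ x) * ((1 : B) ⊗ₜ y) := by simp
    rw [hl, hr, ← mul_assoc, hx, mul_right_comm, hy, mul_right_comm, mul_assoc]

theorem lmul_q (p : (MvPolynomial (Fin n) B)) : Algebra.TensorProduct.lmul' A (q (A := A) b p) = eval b p := by
  induction p using MvPolynomial.induction_on with
  | C r => simp [q_C]
  | add p r hp hr => simp [hp, hr]
  | mul_X p i hp => simp [hp, q_X]

include hC in
theorem lmul_ξ :
    Algebra.TensorProduct.lmul' A (ξ (A := A) b C') =
      (Matrix.of fun i j => aeval b (pderiv j (f i))).det := by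
  classical
  unfold ξ
  rw [lmul_q, RingHom.map_det]
  congr 1
  ext i j
  rw [RingHom.mapMatrix_apply, Matrix.map_apply, Matrix.of_apply]
  have h := congrArg (fun p => eval b (pderiv j p)) (hC i)
  simp only [pderiv_map, map_sum, Derivation.leibniz, map_sub, pderiv_C, pderiv_X, smul_eq_mul,
    map_add, map_mul, eval_X, eval_C, sub_self, sub_zero, zero_mul, add_zero] at h
  simp [eval_map, ← aeval_def, Pi.single_apply] at h
  exact h.symm

variable {ι : Type*} [Fintype ι] (e : Module.Basis ι A B)

/-- Left coefficient with respect to a basis on the right factor. -/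
noncomputable def rcoord (k : ι) : B ⊗[A] B →ₗ[A] B :=
  TensorProduct.lift ((LinearMap.lsmul A B).flip.compl₂ (e.coord k))

theorem rcoord_tmul (k : ι) (x y : B) : rcoord e k (x ⊗ₜ y) = e.coord k y • x := rfl

theorem sum_rcoord (z : B ⊗[A] B) : ∑ k, rcoord e k z ⊗ₜ[A] e k = z := by
  induction z using TensorProduct.induction_on with
  | zero => simp
  | tmul a c =>
    simp only [rcoord_tmul, TensorProduct.smul_tmul, ← TensorProduct.tmul_sum,
      Module.Basis.coord_apply, e.sum_repr]
  | add y y' h h' => simp only [map_add, TensorProduct.add_tmul, Finset.sum_add_distrib, h, h']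

theorem coord_pair (l : Disc.Omega A B) (k : ι) (z : B ⊗[A] B) :
    e.coord k (pair l z) = l.toLinearMap (rcoord e k z) := by
  induction z using TensorProduct.induction_on with
  | zero => simp
  | tmul a c => simp [pair_tmul, rcoord_tmul, mul_comm]
  | add y y' h h' => rw [map_add, map_add, map_add, map_add, h, h']

include hC hf in
/-- The image of `ξ` in `K ⊗ B` does not vanish, for a point of `B` with values in a field `K`. -/
theorem map_ξ_ne_zero {K : Type u} [Field K] [Algebra A K] (π : B →ₐ[A] K)
    (hπ : Function.Surjective π) [Module.Finite A B]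
    (hker : RingHom.ker (aeval b : MvPolynomial (Fin n) A →ₐ[A] B) ≤ Ideal.span (Set.range f))
    (hb : Function.Surjective (aeval b : MvPolynomial (Fin n) A →ₐ[A] B)) :
    Algebra.TensorProduct.map π (AlgHom.id A B) (ξ (A := A) b C') ≠ 0 := by
  classical
  intro hT
  let F : Fin n → MvPolynomial (Fin n) K := fun i => map (algebraMap A K) (f i)
  obtain ⟨I, hI⟩ : ∃ I, I = Ideal.span (Set.range F) := ⟨_, rfl⟩
  -- the comparison `K ⊗ B → K[x]/(F)`
  let φ₀ : MvPolynomial (Fin n) A →ₐ[A] MvPolynomial (Fin n) K ⧸ I :=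
    aeval fun j => Ideal.Quotient.mk I (X j)
  have hφ₀ : ∀ p, φ₀ p = Ideal.Quotient.mk I (map (algebraMap A K) p) := by
    intro p
    induction p using MvPolynomial.induction_on with
    | C r =>
      rw [aeval_C, map_C]
      rfl
    | add p q hp hq => rw [map_add, map_add, map_add, hp, hq]
    | mul_X p i hp => rw [map_mul, map_mul, map_mul, hp, map_X, aeval_X]
  have hφk : ∀ x, aeval b x = 0 → φ₀ x = 0 := fun x hx => by
    rw [hφ₀, Ideal.Quotient.eq_zero_iff_mem]
    have : x ∈ Ideal.span (Set.range f) := hker hx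
    have := Ideal.mem_map_of_mem (map (algebraMap A K)) this
    rw [Ideal.map_span, ← Set.range_comp] at this
    rw [hI]
    exact this
  let φB : B →ₐ[A] MvPolynomial (Fin n) K ⧸ I := AlgHom.liftOfSurjective _ hb φ₀ hφk
  have hφB : ∀ p, φB (aeval b p) = φ₀ p := fun p => AlgHom.liftOfSurjective_apply _ hb φ₀ _ p
  let ψ : K ⊗[A] B →ₐ[K] MvPolynomial (Fin n) K ⧸ I :=
    Algebra.TensorProduct.lift (Algebra.ofId K (MvPolynomial (Fin n) K ⧸ I)) φB
      (fun _ _ => Commute.all _ _)
  let T : B ⊗[A] B →ₐ[A] K ⊗[A] B := Algebra.TensorProduct.map π (AlgHom.id A B)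
  have hψ : ∀ p : MvPolynomial (Fin n) B,
      ψ (T (q b p)) = Ideal.Quotient.mk I (map π.toRingHom p) := by
    intro p
    induction p using MvPolynomial.induction_on with
    | C r =>
      rw [q_C, Algebra.TensorProduct.map_tmul, Algebra.TensorProduct.lift_tmul, map_one, map_one,
        mul_one, map_C]
      rfl
    | add p q hp hq => rw [map_add, map_add, map_add, map_add, map_add, hp, hq]
    | mul_X p i hp =>
      have : φB (b i) = Ideal.Quotient.mk I (X i) := by
        rw [← aeval_X b i (R := A), hφB, aeval_X]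
      rw [map_mul, map_mul, map_mul, map_mul, map_mul, hp, q_X, map_X,
        Algebra.TensorProduct.map_tmul, Algebra.TensorProduct.lift_tmul, map_one, map_one, one_mul]
      exact congrArg (_ * ·) this
  have hψs : Function.Surjective ψ := by
    intro y
    obtain ⟨p, rfl⟩ := Ideal.Quotient.mk_surjective y
    obtain ⟨p, rfl⟩ := MvPolynomial.map_surjective π.toRingHom hπ p
    exact ⟨_, hψ p⟩
  have : Module.Finite K (MvPolynomial (Fin n) K ⧸ I) :=
    Module.Finite.of_surjective ψ.toLinearMap hψs
  have : IsArtinianRing (MvPolynomial (Fin n) K ⧸ I) := IsArtinianRing.of_finite K _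
  subst hI
  refine KoszulWiebe.det_notMem (fun j => π (b j)) F (C'.map (map π.toRingHom)) (fun i => ?_) ?_
  · have h := congrArg (map π.toRingHom) (hC i)
    rw [MvPolynomial.map_map, show π.toRingHom.comp (algebraMap A B) = algebraMap A K from
      π.comp_algebraMap] at h
    rw [show F i = _ from h, map_sum]
    refine Finset.sum_congr rfl fun j _ => ?_
    rw [map_mul, map_sub, map_X, map_C]
    rfl
  · rw [show (C'.map (map π.toRingHom)).det = map π.toRingHom C'.det from
      (RingHom.map_det (map π.toRingHom) C').symm, ← Ideal.Quotient.eq_zero_iff_mem, ← hψ]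
    change ψ (Algebra.TensorProduct.map π (AlgHom.id A B) (ξ (A := A) b C')) = 0
    rw [hT, map_zero]

include hC hf in
/-- At every maximal ideal of `B` some coefficient of `ξ` is invertible. -/
theorem exists_rcoord_notMem [Module.Finite A B]
    (hker : RingHom.ker (aeval b : MvPolynomial (Fin n) A →ₐ[A] B) ≤ Ideal.span (Set.range f))
    (hb : Function.Surjective (aeval b : MvPolynomial (Fin n) A →ₐ[A] B))
    (m : Ideal B) [hm : m.IsMaximal] : ∃ k, rcoord e k (ξ (A := A) b C') ∉ m := by
  by_contra hall
  push Not at hall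
  let := Ideal.Quotient.field m
  apply map_ξ_ne_zero b f hf C' hC (Ideal.Quotient.mkₐ A m) Ideal.Quotient.mk_surjective hker hb
  rw [← sum_rcoord e (ξ (A := A) b C'), map_sum]
  refine Finset.sum_eq_zero fun k _ => ?_
  rw [Algebra.TensorProduct.map_tmul,
    show Ideal.Quotient.mkₐ A m (rcoord e k (ξ (A := A) b C')) = 0 from
      Ideal.Quotient.eq_zero_iff_mem.2 (hall k), TensorProduct.zero_tmul]

include hC hf e in
/-- Tate's isomorphism. -/
theorem exists_bijective [Module.Finite A B]
    (hker : RingHom.ker (aeval b : MvPolynomial (Fin n) A →ₐ[A] B) ≤ Ideal.span (Set.range f))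
    (hb : Function.Surjective (aeval b : MvPolynomial (Fin n) A →ₐ[A] B))
    (hz : ξ (A := A) b C' ∈ (KaehlerDifferential.ideal A B).annihilator) :
    Function.Bijective (toPhi (ξ (A := A) b C') hz) := by
  classical
  let z := ξ (A := A) b C'
  -- matrix of `toPhi z`
  let M : Matrix ι ι A := Matrix.of fun k l => e.coord k (rcoord e l z)
  have hM : ∀ (ψ : Disc.Omega A B) (l : ι),
      e.coord l (toPhi z hz ψ) = Matrix.vecMul (fun k => ψ.toLinearMap (e k)) M l := by
    intro ψ l
    change e.coord l (pair ψ z) = _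
    rw [coord_pair]
    conv_lhs => rw [← e.sum_repr (rcoord e l z), map_sum]
    exact Finset.sum_congr rfl fun k _ => by simp [M, mul_comm]
  have hdet : IsUnit M.det := by
    by_contra hu
    obtain ⟨p, hp, hdp⟩ := exists_max_ideal_of_mem_nonunits hu
    let := Ideal.Quotient.field p
    obtain ⟨v, hv0, hv⟩ : ∃ v : ι → A ⧸ p, v ≠ 0 ∧
        Matrix.vecMul v (M.map (Ideal.Quotient.mk p)) = 0 :=
      Matrix.exists_vecMul_eq_zero_iff.2 (by
        rw [← RingHom.mapMatrix_apply, ← RingHom.map_det]
        exact Ideal.Quotient.eq_zero_iff_mem.2 hdp)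
    choose w hw using fun k => Ideal.Quotient.mk_surjective (v k)
    let ψ : Disc.Omega A B := ⟨e.constr A w⟩
    have hψe : ∀ k, ψ.toLinearMap (e k) = w k := fun k => e.constr_basis A w k
    have h1 : ∀ (l : ι) (y : B), ψ.toLinearMap (y * rcoord e l z) ∈ p := by
      intro l y
      have hy : ψ.toLinearMap (y * rcoord e l z) = e.coord l (toPhi z hz ψ * y) := by
        rw [show toPhi z hz ψ * y = toPhi z hz (y • ψ) by rw [map_smul, smul_eq_mul, mul_comm]]
        change _ = e.coord l (pair (y • ψ) z)
        rw [coord_pair]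
        rfl
      rw [hy, ← e.sum_repr (toPhi z hz ψ), Finset.sum_mul, map_sum]
      refine p.sum_mem fun k _ => ?_
      rw [smul_mul_assoc, map_smul, smul_eq_mul]
      refine p.mul_mem_right _ ?_
      rw [← Ideal.Quotient.eq_zero_iff_mem]
      change Ideal.Quotient.mk p (e.coord k (toPhi z hz ψ)) = 0
      rw [hM, RingHom.map_vecMul]
      simpa [hψe, hw, Function.comp_def] using congrFun hv k
    let L : Ideal B :=
      { carrier := {x | ∀ y, ψ.toLinearMap (y * x) ∈ p}
        add_mem' := fun hx hx' y => by rw [mul_add, map_add]; exact p.add_mem (hx y) (hx' y)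
        zero_mem' := fun y => by simp
        smul_mem' := fun c x hx y => by rw [smul_eq_mul, ← mul_assoc]; exact hx _ }
    have hL : L ≠ ⊤ := fun h => hv0 <| funext fun k => by
      have : (1 : B) ∈ L := h ▸ trivial
      rw [← hw k, Pi.zero_apply, Ideal.Quotient.eq_zero_iff_mem, ← hψe k]
      simpa using this (e k)
    obtain ⟨m, hm, hLm⟩ := L.exists_le_maximal hL
    obtain ⟨k, hk⟩ := exists_rcoord_notMem b f hf C' hC e hker hb m
    exact hk (hLm fun y => h1 k y)
  have hMu : IsUnit M := (Matrix.isUnit_iff_isUnit_det M).2 hdet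
  constructor
  · intro ψ ψ' h
    have : (fun k => ψ.toLinearMap (e k)) = fun k => ψ'.toLinearMap (e k) :=
      Matrix.vecMul_injective_of_isUnit hMu (funext fun l => by
        change Matrix.vecMul _ M l = Matrix.vecMul _ M l
        rw [← hM, ← hM, h])
    exact Disc.Omega.ext (e.ext fun k => congrFun this k)
  · intro x
    obtain ⟨w, hw⟩ := Matrix.vecMul_surjective_iff_isUnit.2 hMu (fun l => e.coord l x)
    refine ⟨⟨e.constr A w⟩, e.ext_elem fun l => ?_⟩
    change e.coord l _ = e.coord l x
    rw [hM]
    simpa [e.constr_basis] using congrFun hw l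

theorem exists_tate [Module.Finite A B] [Module.Free A B] (f : Fin n → MvPolynomial (Fin n) A)
    (b : Fin n → B) (hb : Function.Surjective (aeval b : MvPolynomial (Fin n) A →ₐ[A] B))
    (hker : RingHom.ker (aeval b : MvPolynomial (Fin n) A →ₐ[A] B) = Ideal.span (Set.range f)) :
    ∃ e : B ≃ₗ[B] Disc.Omega A B,
      e ((Matrix.of fun i j => aeval b (pderiv j (f i))).det) = Disc.Omega.trace A B := by
  have hf : ∀ i, aeval b (f i) = 0 := fun i => by
    rw [← RingHom.mem_ker, hker]
    exact Ideal.subset_span ⟨i, rfl⟩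
  choose c hc using fun i => exists_decomp b (map (algebraMap A B) (f i))
  let C' : Matrix (Fin n) (Fin n) (MvPolynomial (Fin n) B) := Matrix.of c
  have hC : ∀ i, map (algebraMap A B) (f i) = ∑ j, C' i j * (X j - C (b j)) := fun i => by
    conv_lhs => rw [hc i]
    rw [eval_map, ← aeval_def, hf, map_zero, zero_add]
    rfl
  have hadj : Algebra.adjoin A (Set.range b) = ⊤ := by
    rw [Algebra.adjoin_range_eq_range_aeval]
    exact AlgHom.range_eq_top _ |>.2 hb
  have hz := ξ_mem b f hf C' hC hadj
  let ch := Module.Free.chooseBasis A B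
  let Φ := LinearEquiv.ofBijective _ (exists_bijective b f hf C' hC ch hker.le hb hz)
  refine ⟨Φ.symm, ?_⟩
  rw [LinearEquiv.symm_apply_eq, ← lmul_ξ b f C' hC]
  exact (toPhi_trace ch _ hz).symm

theorem noetherDifferent_eq [Module.Finite A B] [Module.Free A B]
    (f : Fin n → MvPolynomial (Fin n) A)
    (b : Fin n → B) (hb : Function.Surjective (aeval b : MvPolynomial (Fin n) A →ₐ[A] B))
    (hker : RingHom.ker (aeval b : MvPolynomial (Fin n) A →ₐ[A] B) = Ideal.span (Set.range f)) :
    Disc.noetherDifferent A B =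
      Ideal.span {(Matrix.of fun i j => aeval b (pderiv j (f i))).det} := by
  obtain ⟨e, he⟩ := exists_tate f b hb hker
  refine SetLike.coe_injective ?_
  rw [noetherDifferent_eq_range]
  ext x
  constructor
  · rintro ⟨φ, rfl⟩
    change φ (Disc.Omega.trace A B) ∈ _
    rw [← he]
    have h1 : ∀ d : B, φ (e d) = d * φ (e 1) := fun d => by
      conv_lhs => rw [← mul_one d, ← smul_eq_mul, map_smul, map_smul, smul_eq_mul]
    rw [h1]
    exact Ideal.mul_mem_right _ _ (Ideal.mem_span_singleton_self _)
  · intro hx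
    obtain ⟨r, rfl⟩ := Ideal.mem_span_singleton.1 hx
    exact ⟨r • e.symm.toLinearMap, by simp [← he, mul_comm]⟩

end Groth.Agent.NoetherDiff.GCI
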