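/-
Finite algebras over a field: Gorenstein iff the dual is cyclic; the finite free relative version.
-/
import Groth.Prelude.Def_Disc
import Groth.Agent.Gor.Ring
import Mathlib.RingTheory.PicardGroup
import Mathlib.Algebra.Module.Injective
import Mathlib.RingTheory.Ideal.GoingUp
import Mathlib.LinearAlgebra.Dual.Lemmas
import Mathlib.RingTheory.QuasiFinite.Basic
import Mathlib.LinearAlgebra.Matrix.Adjugate

open TensorProduct

universe u

namespace Groth.Agent.NoetherDiff

section Field

variable {k C : Type u} [Field k] [CommRing C] [Algebra k C] [Module.Finite k C]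

theorem injective_omega : Module.Injective C (Disc.Omega k C) := by
  apply Module.Baer.injective
  intro I h
  let μ : (I.restrictScalars k) →ₗ[k] k :=
    { toFun := fun x => (h ⟨x.1, x.2⟩).toLinearMap 1
      map_add' := fun x y => by
        change (h (⟨x.1, x.2⟩ + ⟨y.1, y.2⟩)).toLinearMap 1 = _
        rw [map_add]
        rfl
      map_smul' := fun c x => by
        rw [RingHom.id_apply]
        have : (⟨(c • x).1, (c • x).2⟩ : I) = algebraMap k C c • (⟨x.1, x.2⟩ : I) :=
          Subtype.ext (Algebra.smul_def c x.1)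
        rw [this, map_smul, Disc.Omega.smul_toLinearMap_apply, ← Algebra.smul_def, map_smul] }
  obtain ⟨l, hl⟩ := LinearMap.exists_extend μ
  refine ⟨LinearMap.toSpanSingleton C _ ⟨l⟩, fun x hx => ?_⟩
  refine Disc.Omega.ext (LinearMap.ext fun y => ?_)
  rw [LinearMap.toSpanSingleton_apply, Disc.Omega.smul_toLinearMap_apply]
  have h1 := LinearMap.congr_fun hl ⟨x * y, I.mul_mem_right y hx⟩
  rw [show x * y = (Submodule.subtype _ (⟨x * y, I.mul_mem_right y hx⟩ : I.restrictScalars k)) from rfl]
  refine h1.trans ?_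
  change (h ⟨x * y, _⟩).toLinearMap 1 = _
  rw [show (⟨x * y, I.mul_mem_right y hx⟩ : I) = y • (⟨x, hx⟩ : I) from Subtype.ext (mul_comm x y),
    map_smul, Disc.Omega.smul_toLinearMap_apply, mul_one]

/-- A functional generates the dual iff it kills no nonzero ideal. -/
theorem bijective_smul_iff (g : Disc.Omega k C) :
    Function.Bijective (fun c : C => c • g) ↔ ∀ c : C, c • g = 0 → c = 0 := by
  let Ψ : C →ₗ[k] (C →ₗ[k] k) :=
    { toFun := fun c => (c • g).toLinearMap
      map_add' := fun a b => by rw [add_smul]; rfl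
      map_smul' := fun a c => LinearMap.ext fun y => by
        simp [smul_mul_assoc] }
  have hfin : Module.finrank k C = Module.finrank k (C →ₗ[k] k) := Subspace.dual_finrank_eq.symm
  constructor
  · exact fun h c hc => h.1 (hc.trans (zero_smul C g).symm)
  · intro h
    have hinj : Function.Injective Ψ := (injective_iff_map_eq_zero Ψ).2 fun c hc =>
      h c (Disc.Omega.ext hc)
    have hsurj := (LinearMap.injective_iff_surjective_of_finrank_eq_finrank hfin).1 hinj
    refine ⟨fun a b hab => hinj (congrArg Disc.Omega.toLinearMap hab), fun l => ?_⟩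
    obtain ⟨c, hc⟩ := hsurj l.toLinearMap
    exact ⟨c, Disc.Omega.ext hc⟩

/-- Gorenstein iff the dual is free of rank one. -/
theorem gorenstein_iff_exists_generator :
    LocCoh.IsGorensteinRing C ↔ ∃ g : Disc.Omega k C, ∀ c : C, c • g = 0 → c = 0 := by
  classical
  have : IsArtinianRing C := IsArtinianRing.of_finite k C
  constructor
  · intro hC
    -- socle generators
    have hsoc : ∀ m : MaximalSpectrum C, ∃ e : C, e ≠ 0 ∧ (∀ x ∈ m.asIdeal, x * e = 0) ∧
        ∀ a : C, (∀ x ∈ m.asIdeal, x * a = 0) → a ∈ Ideal.span {e} := by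
      intro m
      have := m.isMaximal
      let L := Localization.AtPrime m.asIdeal
      have : LocCoh.IsGorensteinLocalRing L := hC.isGorensteinLocalRing_localization m.asIdeal
      obtain ⟨φ, hφ⟩ := Gor.Basic.exists_socle_of_artinian (A := L)
      obtain ⟨n, hn⟩ := Gor.Basic.exists_hasInjectiveDimensionLT (A := L)
      have hh := Gor.Basic.hull_of_injective hφ (Gor.Basic.injective_of_socle_of_finite_id hφ n hn)
      have hmax := IsLocalization.AtPrime.map_eq_maximalIdeal m.asIdeal L
      obtain ⟨e₀, he₀⟩ : ∃ e₀ : C, algebraMap C L e₀ = φ 1 :=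
        IsArtinianRing.localization_surjective m.asIdeal.primeCompl L _
      -- kernel elements are killed outside `m`
      have hk : ∀ c : C, algebraMap C L c = 0 → ∃ t ∉ m.asIdeal, t * c = 0 := fun c hc => by
        obtain ⟨⟨t, ht⟩, h⟩ := (IsLocalization.map_eq_zero_iff m.asIdeal.primeCompl L c).1 hc
        exact ⟨t, ht, h⟩
      obtain ⟨s, hs, hse⟩ : ∃ s ∉ m.asIdeal, ∀ x ∈ m.asIdeal, x * (s * e₀) = 0 := by
        obtain ⟨T, hT⟩ := (IsNoetherian.noetherian m.asIdeal : m.asIdeal.FG)
        have : ∀ x : C, ∃ t ∉ m.asIdeal, x ∈ m.asIdeal → t * (x * e₀) = 0 := fun x => by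
          by_cases hx : x ∈ m.asIdeal
          · obtain ⟨t, ht, h⟩ := hk (x * e₀) (by
              rw [map_mul, he₀, ← smul_eq_mul, ← map_smul]
              rw [show algebraMap C L x • (1 : IsLocalRing.ResidueField L) = 0 from
                InjHull.Matlis.residue_smul_eq_zero (hmax ▸ Ideal.mem_map_of_mem _ hx) 1, map_zero])
            exact ⟨t, ht, fun _ => h⟩
          · exact ⟨1, fun h => m.isMaximal.ne_top ((Ideal.eq_top_iff_one _).2 h), fun h => absurd h hx⟩
        choose t ht ht' using this
        refine ⟨∏ x ∈ T, t x, fun h => ?_, fun x hx => ?_⟩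
        · obtain ⟨x, -, hx⟩ := (m.isMaximal.isPrime.prod_mem_iff).1 h
          exact ht x hx
        · rw [← hT] at hx
          induction hx using Submodule.span_induction with
          | mem x hx =>
            rw [← Finset.prod_erase_mul _ _ hx]
            calc x * ((∏ y ∈ T.erase x, t y) * t x * e₀) = (∏ y ∈ T.erase x, t y) * (t x * (x * e₀)) := by ring
              _ = 0 := by rw [ht' x (hT ▸ Submodule.subset_span hx), mul_zero]
          | zero => rw [zero_mul]
          | add x y _ _ h h' => rw [add_mul, h, h', add_zero]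
          | smul r x _ h => rw [smul_eq_mul, mul_assoc, h, mul_zero]
      refine ⟨s * e₀, fun h => ?_, hse, fun a ha => ?_⟩
      · have : φ 1 = 0 := by
          rw [← he₀]
          exact (IsLocalization.map_eq_zero_iff m.asIdeal.primeCompl L e₀).2 ⟨⟨s, hs⟩, h⟩
        exact one_ne_zero (hφ (this.trans (map_zero φ).symm))
      · have hmem : algebraMap C L a ∈ LinearMap.range φ := by
          rw [InjHull.Matlis.mem_range_iff hh]
          intro z hz
          rw [← hmax] at hz
          induction hz using Submodule.span_induction with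
          | mem z hz =>
            obtain ⟨x, hx, rfl⟩ := hz
            rw [smul_eq_mul, ← map_mul, ha x hx, map_zero]
          | zero => rw [zero_smul]
          | add x y _ _ h h' => rw [add_smul, h, h', add_zero]
          | smul r x _ h =>
            simp only [smul_eq_mul] at h ⊢
            rw [mul_assoc, h, mul_zero]
        obtain ⟨r, hr⟩ := hmem
        obtain ⟨r, rfl⟩ := IsLocalRing.residue_surjective r
        obtain ⟨c, rfl⟩ := IsArtinianRing.localization_surjective m.asIdeal.primeCompl L r
        have hr' : algebraMap C L (a - c * e₀) = 0 := by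
          rw [map_sub, map_mul, he₀, ← hr, sub_eq_zero, ← smul_eq_mul, ← map_smul]
          congr 1
          exact (mul_one _).symm
        obtain ⟨t, ht, hta⟩ := hk _ hr'
        obtain ⟨u, μ, hμ, h1⟩ := m.isMaximal.exists_inv (m.isMaximal.isPrime.mul_notMem ht hs)
        refine Ideal.mem_span_singleton'.2 ⟨u * t * c, ?_⟩
        have e1 : a = (u * (t * s) + μ) * a := by rw [h1, one_mul]
        rw [e1, add_mul, ha μ hμ, add_zero]
        have : t * a = t * (c * e₀) := by rw [← sub_eq_zero, ← mul_sub, hta]
        linear_combination (-(u * s)) * this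
    choose e he hem hea using hsoc
    -- independence of the socle generators
    have hind : LinearIndependent k e := by
      rw [linearIndependent_iff']
      intro S w hw i hi
      have hx : ∃ x : C, x ∉ i.asIdeal ∧ ∀ j ∈ S.erase i, x ∈ j.asIdeal := by
        have := i.isMaximal
        have : ¬ (S.erase i).inf (fun j => j.asIdeal) ≤ i.asIdeal := by
          rw [i.isMaximal.isPrime.inf_le']
          rintro ⟨j, hj, hle⟩
          exact Finset.ne_of_mem_erase hj (MaximalSpectrum.ext (j.isMaximal.eq_of_le i.isMaximal.ne_top hle))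
        obtain ⟨x, hx, hxi⟩ := SetLike.not_le_iff_exists.1 this
        exact ⟨x, hxi, fun j hj => (Finset.inf_le (f := fun j : MaximalSpectrum C => j.asIdeal) hj) hx⟩
      obtain ⟨x, hxi, hxj⟩ := hx
      have h2 := congrArg (x * ·) hw
      simp only [Finset.mul_sum, mul_zero, mul_smul_comm] at h2
      rw [Finset.sum_eq_single_of_mem i hi (fun j hj hne => by
        rw [hem j x (hxj j (Finset.mem_erase.2 ⟨hne, hj⟩)), smul_zero])] at h2
      rcases smul_eq_zero.1 h2 with h | h
      · exact h
      · obtain ⟨u, μ, hμ, h1⟩ := i.isMaximal.exists_inv hxi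
        exact absurd (by rw [← one_mul (e i), ← h1, add_mul, mul_assoc, h, mul_zero, hem i μ hμ, add_zero]) (he i)
    obtain ⟨l, hl⟩ : ∃ l : C →ₗ[k] k, ∀ i, l (e i) = 1 := by
      obtain ⟨inv, hinv⟩ := LinearMap.exists_leftInverse_of_injective
        (Finsupp.linearCombination k e) (LinearMap.ker_eq_bot.2 hind.finsuppLinearCombination_injective)
      refine ⟨(Finsupp.linearCombination k fun _ => (1 : k)).comp inv, fun i => ?_⟩
      have h1 := LinearMap.congr_fun hinv (Finsupp.single i 1)
      rw [LinearMap.comp_apply, Finsupp.linearCombination_single, one_smul, LinearMap.id_apply] at h1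
      rw [LinearMap.comp_apply, h1, Finsupp.linearCombination_single, smul_eq_mul, mul_one]
    refine ⟨⟨l⟩, fun c hc => ?_⟩
    by_contra hne
    -- a socle element in `(c)`
    have hN : (Ideal.span {c} : Ideal C) ≠ ⊥ := by simpa using hne
    obtain ⟨N, hN', hmin⟩ : ∃ N : Ideal C, (N ≠ ⊥ ∧ N ≤ Ideal.span {c}) ∧
        ∀ N' : Ideal C, (N' ≠ ⊥ ∧ N' ≤ Ideal.span {c}) → N' ≤ N → N ≤ N' := by
      obtain ⟨N, hN1, hN2⟩ := IsArtinian.set_has_minimal
        {N : Ideal C | N ≠ ⊥ ∧ N ≤ Ideal.span {c}} ⟨_, hN, le_rfl⟩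
      exact ⟨N, hN1, fun N' h' hle => (eq_of_le_of_not_lt hle (hN2 N' h')).ge⟩
    obtain ⟨a, haN, ha0⟩ := Submodule.exists_mem_ne_zero_of_ne_bot hN'.1
    have hann : (Submodule.annihilator (Ideal.span {a} : Ideal C)) ≠ ⊤ := fun h => ha0 (by
      simpa using Submodule.mem_annihilator.1 ((Ideal.eq_top_iff_one _).1 h) a (Ideal.mem_span_singleton_self a))
    obtain ⟨m, hm, hle⟩ := Ideal.exists_le_maximal _ hann
    have hkill : ∀ x ∈ m, x * a = 0 := by
      intro x hx
      by_contra hxa
      have h1 : N ≤ Ideal.span {x * a} := hmin _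
        ⟨by simpa using hxa, (Ideal.span_singleton_le_iff_mem _).2 (Ideal.mul_mem_left _ _ (hN'.2 haN))⟩
        ((Ideal.span_singleton_le_iff_mem _).2 (N.mul_mem_left _ haN))
      obtain ⟨r, hr⟩ := Ideal.mem_span_singleton'.1 (h1 haN)
      have : (1 - r * x) ∈ m := hle (Submodule.mem_annihilator.2 fun z hz => by
        obtain ⟨w, rfl⟩ := Ideal.mem_span_singleton'.1 hz
        rw [smul_eq_mul]
        linear_combination (-w) * hr)
      exact hm.ne_top ((Ideal.eq_top_iff_one _).2 (by
        simpa using m.add_mem this (m.mul_mem_left r hx)))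
    obtain ⟨r, hr⟩ := Ideal.mem_span_singleton'.1 (hea ⟨m, hm⟩ a hkill)
    have hr' : r ∉ m := fun h => ha0 (by rw [← hr, hem ⟨m, hm⟩ r h])
    obtain ⟨u, μ, hμ, h1⟩ := hm.exists_inv hr'
    have hmem : e ⟨m, hm⟩ ∈ Ideal.span {c} := by
      rw [← one_mul (e ⟨m, hm⟩), ← h1, add_mul, hem ⟨m, hm⟩ μ hμ, add_zero, mul_assoc, hr]
      exact Ideal.mul_mem_left _ _ (hN'.2 haN)
    obtain ⟨y, hy⟩ := Ideal.mem_span_singleton'.1 hmem
    have h0 := congrArg (fun l : Disc.Omega k C => l.toLinearMap y) hc
    simp only [Disc.Omega.smul_toLinearMap_apply, Disc.Omega.zero_toLinearMap,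
      LinearMap.zero_apply] at h0
    rw [mul_comm, hy, hl] at h0
    exact one_ne_zero h0
  · rintro ⟨g, hg⟩
    let e : C ≃ₗ[C] Disc.Omega k C :=
      LinearEquiv.ofBijective (LinearMap.toSpanSingleton C _ g) ((bijective_smul_iff g).2 hg)
    exact Gor.Ring.isGorensteinRing_of_injective C
      (InjHull.Basic.injective_of_equiv injective_omega e.symm)

end Field


section Relative

variable {A B : Type u} [CommRing A] [CommRing B] [Algebra A B]

/-- An invertible dualizing module is principal near each prime of the base. -/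
theorem exists_generator_at [Module.Finite A B] [Module.Invertible B (Disc.Omega A B)] (p : Ideal A)
    [p.IsPrime] : ∃ (s : A) (g : Disc.Omega A B), s ∉ p ∧
      ∀ l : Disc.Omega A B, ∃ c : B, algebraMap A B s • l = c • g := by
  classical
  have hfin : (p.primesOver B).Finite := Algebra.QuasiFinite.finite_primesOver p
  have hφ : ∀ q : Ideal B, q.IsPrime → ∃ (φ : Disc.Omega A B →ₗ[B] B) (m : Disc.Omega A B),
      φ m ∉ q := by
    intro q hq
    by_contra hcon
    push Not at hcon
    obtain ⟨z, hz⟩ := (Module.Invertible.linearEquiv B (Disc.Omega A B)).surjective 1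
    apply hq.ne_top
    rw [Ideal.eq_top_iff_one, ← hz]
    clear hz
    induction z using TensorProduct.induction_on with
    | zero => rw [map_zero]; exact q.zero_mem
    | tmul φ m => exact hcon φ m
    | add z w h h' => rw [map_add]; exact q.add_mem h h'
  choose φ m hφm using hφ
  let S := hfin.toFinset
  have hmem : ∀ {q}, q ∈ S → q.IsPrime ∧ q.LiesOver p := fun {q} hq => by
    simpa [S, Ideal.primesOver] using hq
  have hx : ∀ q : S, ∃ x : B, x ∉ q.1 ∧ ∀ q' : S, q' ≠ q → x ∈ q'.1 := by
    intro q
    have hqp := (hmem q.2).1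
    have : ¬ (S.erase q.1).inf id ≤ q.1 := by
      rw [hqp.inf_le']
      rintro ⟨q', hq', hle⟩
      have := (hmem (Finset.mem_of_mem_erase hq')).1
      refine Finset.ne_of_mem_erase hq' (Algebra.QuasiFinite.eq_of_le_of_under_eq (R := A) q' q.1 hle ?_)
      exact (hmem (Finset.mem_of_mem_erase hq')).2.over.symm.trans (hmem q.2).2.over
    obtain ⟨x, hx, hxq⟩ := SetLike.not_le_iff_exists.1 this
    refine ⟨x, hxq, fun q' hne => ?_⟩
    exact (Finset.inf_le (f := id) (Finset.mem_erase.2 ⟨fun h => hne (Subtype.ext h), q'.2⟩)) hx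
  choose x hxq hx' using hx
  let g : Disc.Omega A B := ∑ q : S, x q • m q.1 (hmem q.2).1
  let J : Ideal B := Submodule.colon (Submodule.span B {g}) Set.univ
  by_contra hcon
  push Not at hcon
  have hJp : J.comap (algebraMap A B) ≤ p := by
    intro s hs
    by_contra hsp
    obtain ⟨l, hl⟩ := hcon s g hsp
    obtain ⟨c, hc⟩ := Submodule.mem_span_singleton.1 (Submodule.mem_colon.1 hs l (Set.mem_univ _))
    exact hl c hc.symm
  obtain ⟨q, hqJ, hq, hqp⟩ := Ideal.exists_ideal_over_prime_of_isIntegral p J hJp
  have hqS : q ∈ S := by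
    simp only [S, Set.Finite.mem_toFinset]
    exact ⟨hq, ⟨hqp.symm⟩⟩
  let ψ := φ q hq
  have hψ : ψ g ∉ q := by
    have hsplit : ψ g = x ⟨q, hqS⟩ * ψ (m q hq) +
        ∑ q' ∈ Finset.univ.erase (⟨q, hqS⟩ : S), x q' * ψ (m q'.1 (hmem q'.2).1) := by
      simp only [g, map_sum, map_smul, smul_eq_mul]
      exact (Finset.add_sum_erase Finset.univ
        (fun q' : S => x q' * ψ (m q'.1 (hmem q'.2).1)) (Finset.mem_univ _)).symm
    intro h
    rw [hsplit] at h
    have h2 : ∑ q' ∈ Finset.univ.erase (⟨q, hqS⟩ : S), x q' * ψ (m q'.1 (hmem q'.2).1) ∈ q :=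
      q.sum_mem fun q' hq' => q.mul_mem_right _
        (hx' q' ⟨q, hqS⟩ (Finset.ne_of_mem_erase hq').symm)
    rcases hq.mem_or_mem ((Ideal.add_mem_iff_left q h2).1 h) with h3 | h3
    · exact hxq ⟨q, hqS⟩ h3
    · exact hφm q hq h3
  apply hψ
  refine hq.mem_of_pow_mem 2 (hqJ (Submodule.mem_colon.2 fun l _ => ?_))
  obtain ⟨r, hr⟩ := (Module.Invertible.toModuleEnd_bijective B (Disc.Omega A B)).2
    (ψ g • LinearMap.id - ψ.smulRight g)
  have hr' : ∀ y, r • y = ψ g • y - ψ y • g := fun y => LinearMap.congr_fun hr y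
  have h0 : r * ψ g = 0 := by
    have := congrArg ψ (hr' g)
    rw [map_smul, smul_eq_mul, map_sub, sub_self] at this
    exact this
  refine Submodule.mem_span_singleton.2 ⟨ψ g * ψ l, ?_⟩
  have := congrArg (ψ g • ·) (hr' l)
  simp only [smul_smul, smul_sub, mul_comm (ψ g) r, h0, zero_smul] at this
  rw [pow_two, eq_comm, ← sub_eq_zero]
  exact this.symm

variable {ι : Type*} [Fintype ι] (β : Module.Basis ι A B)

/-- The Gram matrix of a functional. -/
noncomputable def gram (g : Disc.Omega A B) : Matrix ι ι A :=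
  Matrix.of fun i j => g.toLinearMap (β i * β j)

theorem smul_apply_basis (g : Disc.Omega A B) (c : B) (j : ι) :
    (c • g).toLinearMap (β j) = Matrix.vecMul (fun i => β.repr c i) (gram β g) j := by
  conv_lhs => rw [Disc.Omega.smul_toLinearMap_apply, ← β.sum_repr c, Finset.sum_mul, map_sum]
  simp [gram, Matrix.vecMul, dotProduct]

theorem exists_smul_eq_det [DecidableEq ι] (g l : Disc.Omega A B) :
    ∃ c : B, algebraMap A B (gram β g).det • l = c • g := by
  refine ⟨∑ i, Matrix.vecMul (fun j => l.toLinearMap (β j)) (gram β g).adjugate i • β i,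
    Disc.Omega.ext (β.ext fun j => ?_)⟩
  rw [Disc.Omega.smul_toLinearMap_apply, ← Algebra.smul_def, map_smul, smul_apply_basis]
  simp only [β.repr_sum_self]
  rw [Matrix.vecMul_vecMul, Matrix.adjugate_mul, Matrix.vecMul_smul, Matrix.vecMul_one]
  simp

theorem smul_eq_zero_of_det [DecidableEq ι] (g : Disc.Omega A B) (c : B) (hc : c • g = 0) :
    algebraMap A B (gram β g).det * c = 0 := by
  rw [← Algebra.smul_def]
  refine β.repr.injective (Finsupp.ext fun i => ?_)
  have hv : Matrix.vecMul (fun i => β.repr c i) (gram β g) = 0 := funext fun j => by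
    rw [← smul_apply_basis, hc]
    simp
  have := congrArg (fun v => Matrix.vecMul v (gram β g).adjugate) hv
  simp only [Matrix.vecMul_vecMul, Matrix.mul_adjugate, Matrix.vecMul_smul, Matrix.vecMul_one,
    Matrix.zero_vecMul] at this
  simpa using congrFun this i

/-- The dualizing module is invertible if at every maximal ideal some functional has an invertible
Gram matrix. -/
theorem invertible_of_gram [DecidableEq ι]
    (h : ∀ (p : Ideal A), p.IsMaximal → ∃ g : Disc.Omega A B, (gram β g).det ∉ p) :
    Module.Invertible B (Disc.Omega A B) := by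
  classical
  -- the dual generator
  have key : ∀ (p : Ideal A), p.IsMaximal → ∃ (s : A) (g : Disc.Omega A B)
      (Φ : Module.Dual B (Disc.Omega A B)), s ∉ p ∧
        (∀ l, algebraMap A B s • l = Φ l • g) ∧ Φ g = algebraMap A B s := by
    intro p hp
    obtain ⟨g, hg⟩ := h p hp
    let s := algebraMap A B (gram β g).det
    choose c hc using exists_smul_eq_det β g
    have huniq : ∀ d d' : B, d • g = d' • g → s * d = s * d' := fun d d' hd => by
      rw [← sub_eq_zero, ← mul_sub]
      exact smul_eq_zero_of_det β g _ (by rw [sub_smul, hd, sub_self])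
    let Φ : Module.Dual B (Disc.Omega A B) :=
      { toFun := fun l => s * c l
        map_add' := fun l l' => by
          rw [← mul_add]
          exact huniq _ _ (by rw [← hc, add_smul, ← hc, ← hc, smul_add])
        map_smul' := fun b l => by
          rw [RingHom.id_apply, smul_eq_mul, mul_left_comm]
          exact huniq _ _ (by rw [← hc, mul_smul, ← hc, smul_comm]) }
    refine ⟨(gram β g).det * (gram β g).det, g, Φ, fun h => (hp.isPrime.mem_or_mem h).elim hg hg,
      fun l => ?_, ?_⟩
    · change algebraMap A B _ • l = (s * c l) • g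
      rw [mul_smul s, ← hc, map_mul, mul_smul]
    · change s * c g = _
      rw [map_mul]
      exact huniq _ _ (hc g).symm
  refine ⟨?_, fun b => ?_⟩
  · rw [injective_iff_map_eq_zero]
    intro z hz
    by_contra hne
    let I : Ideal A := LinearMap.ker (LinearMap.toSpanSingleton A _ z)
    have hI : I ≠ ⊤ := fun hI => hne (by
      have : (1 : A) ∈ I := hI ▸ trivial
      simpa [I] using this)
    obtain ⟨p, hp, hle⟩ := Ideal.exists_le_maximal I hI
    obtain ⟨s, g, Φ, hs, hΦ, hΦg⟩ := key p hp
    let S := algebraMap A B s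
    have hz' : ∀ z : Module.Dual B (Disc.Omega A B) ⊗[B] Disc.Omega A B,
        (S * S) • z = (S * contractLeft B (Disc.Omega A B) z) • (Φ ⊗ₜ[B] g) := by
      intro z
      induction z using TensorProduct.induction_on with
      | zero => simp
      | tmul φ m =>
        have h1 : S • φ = φ g • Φ := LinearMap.ext fun l => by
          have := congrArg φ (hΦ l)
          rw [map_smul, map_smul] at this
          simpa [mul_comm] using this
        have h2 : S * φ m = Φ m * φ g := by
          simpa using congrArg φ (hΦ m)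
        rw [contractLeft_apply, h2, mul_smul, ← TensorProduct.tmul_smul, hΦ, ← TensorProduct.smul_tmul,
          TensorProduct.smul_tmul', ← smul_comm, h1, smul_smul, ← TensorProduct.smul_tmul']
      | add a b ha hb => rw [smul_add, ha, hb, map_add, mul_add, add_smul]
    have := hz' z
    rw [hz, mul_zero, zero_smul, ← map_mul, algebraMap_smul] at this
    exact hs ((hp.isPrime.mem_or_mem (hle (show (s * s) ∈ I by simpa [I] using this))).elim id id)
  · let R := LinearMap.range (contractLeft B (Disc.Omega A B))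
    by_contra hne
    let I : Ideal A := (R.restrictScalars A).comap (Algebra.linearMap A B)
    have hI : I ≠ ⊤ := fun hI => hne (by
      have h1 : (1 : A) ∈ I := hI ▸ trivial
      have h2 : (1 : B) ∈ R := by simpa [I] using h1
      obtain ⟨z, hz⟩ := h2
      exact ⟨b • z, by rw [map_smul, hz, smul_eq_mul, mul_one]⟩)
    obtain ⟨p, hp, hle⟩ := Ideal.exists_le_maximal I hI
    obtain ⟨s, g, Φ, hs, hΦ, hΦg⟩ := key p hp
    exact hs (hle (show algebraMap A B s ∈ R from ⟨Φ ⊗ₜ g, by rw [contractLeft_apply, hΦg]⟩))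

end Relative

end Groth.Agent.NoetherDiff
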