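/-
The zeroth Fitting ideal of a module with a square presentation; Kähler different of a global
complete intersection with as many equations as variables.
-/
import Groth.Prelude.Def_Fitting
import Mathlib.LinearAlgebra.Matrix.Adjugate
import Mathlib.LinearAlgebra.Matrix.SchurComplement
import Mathlib.Algebra.MvPolynomial.PDeriv
import Mathlib.RingTheory.Kaehler.Basic

universe u v

namespace Groth.Agent.NoetherDiff.SqPres

variable {R : Type u} [CommRing R] {M : Type v} [AddCommGroup M] [Module R M] {n : ℕ}

/-- `Fit₀` of the cokernel of a square matrix is generated by its determinant. -/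
theorem ideal_zero_eq (x : Fin n → M) (J : Matrix (Fin n) (Fin n) R)
    (hx : Submodule.span R (Set.range x) = ⊤) (hJ : ∀ i, ∑ j, J i j • x j = 0)
    (hker : ∀ v : Fin n → R, ∑ j, v j • x j = 0 → ∃ c : Fin n → R, Matrix.vecMul c J = v) :
    Fitt.ideal R M 0 = Ideal.span {J.det} := by
  classical
  refine le_antisymm (Ideal.span_le.2 ?_) (Ideal.span_le.2 ?_)
  · rintro _ ⟨m, y, a, hy, ha, rfl⟩
    have hP : ∀ i, ∃ p : Fin n → R, ∑ j, p j • x j = y i := fun i =>
      (Submodule.mem_span_range_iff_exists_fun R).1 (hx ▸ Submodule.mem_top)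
    choose P hP using hP
    have hQ : ∀ j, ∃ q : Fin m → R, ∑ i, q i • y i = x j := fun j =>
      (Submodule.mem_span_range_iff_exists_fun R).1 (hy ▸ Submodule.mem_top)
    choose Q hQ using hQ
    -- combinations of `y` seen in terms of `x`
    have key : ∀ w : Fin m → R, ∑ j, Matrix.vecMul w (Matrix.of P) j • x j = ∑ i, w i • y i := by
      intro w
      simp only [Matrix.vecMul, dotProduct, Matrix.of_apply, Finset.sum_smul, mul_smul]
      rw [Finset.sum_comm]
      simp only [← Finset.smul_sum, hP]
    have hC : ∀ i, ∃ c : Fin n → R, Matrix.vecMul c J = Matrix.vecMul (a i) (Matrix.of P) :=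
      fun i => hker _ (by rw [key]; exact ha i (by simp))
    choose C hC using hC
    have hD : ∀ j, ∃ d : Fin n → R,
        Matrix.vecMul d J = Pi.single j 1 - Matrix.vecMul (Q j) (Matrix.of P) := fun j => hker _ (by
      simp only [Pi.sub_apply, sub_smul, Finset.sum_sub_distrib]
      rw [key, hQ, Finset.sum_eq_single j (fun b _ hb => by simp [hb])
        (fun h => absurd (Finset.mem_univ j) h)]
      simp)
    choose D hD using hD
    let Pm : Matrix (Fin m) (Fin n) R := Matrix.of P
    let Qm : Matrix (Fin n) (Fin m) R := Matrix.of Q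
    have e1 : a * Pm = Matrix.of C * J := Matrix.ext fun i j => (congrFun (hC i) j).symm
    have e2 : 1 - Qm * Pm = Matrix.of D * J := Matrix.ext fun i j => by
      refine Eq.trans ?_ (congrFun (hD i) j).symm
      rw [Matrix.sub_apply, Pi.sub_apply, Matrix.one_apply, Pi.single_apply]
      simp only [eq_comm (a := i)]
      rfl
    have h : Matrix.fromBlocks a 0 (-Qm) 1 * Matrix.fromBlocks 1 Pm 0 1 =
        Matrix.fromBlocks a (Matrix.of C) (-Qm) (Matrix.of D) * Matrix.fromBlocks 1 0 0 J := by
      rw [Matrix.fromBlocks_multiply, Matrix.fromBlocks_multiply, ← e1, ← e2]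
      simp [neg_add_eq_sub]
    have hd := congrArg Matrix.det h
    rw [Matrix.det_mul, Matrix.det_mul, Matrix.det_fromBlocks_zero₁₂, Matrix.det_fromBlocks_zero₂₁,
      Matrix.det_fromBlocks_zero₁₂, Matrix.det_one, Matrix.det_one, one_mul, mul_one, mul_one] at hd
    rw [one_mul] at hd
    exact Ideal.mem_span_singleton.2 ⟨_, hd.trans (mul_comm _ _)⟩
  · rintro _ rfl
    exact Ideal.subset_span ⟨n, x, J, hx, fun i _ => hJ i, rfl⟩

section

open MvPolynomial KaehlerDifferential

variable (A : Type u) [CommRing A] (f : Fin n → MvPolynomial (Fin n) A)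

/-- The Kähler different of a square presentation. -/
theorem kaehlerDifferent_eq_of_presentation {B : Type u} [CommRing B] [Algebra A B] (b : Fin n → B)
    (hb : Function.Surjective (aeval b : MvPolynomial (Fin n) A →ₐ[A] B))
    (hker : RingHom.ker (aeval b : MvPolynomial (Fin n) A →ₐ[A] B) = Ideal.span (Set.range f)) :
    Fitt.ideal B (KaehlerDifferential A B) 0 =
      Ideal.span {(Matrix.of fun i j : Fin n => aeval b (pderiv j (f i))).det} := by
  classical
  let I := Ideal.span (Set.range f)
  let π : MvPolynomial (Fin n) A →ₐ[A] B := aeval b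
  let J : Matrix (Fin n) (Fin n) (B) :=
    Matrix.of fun i j => π (pderiv j (f i))
  let dx : Fin n → KaehlerDifferential A (B) :=
    fun j => D A _ (π (X j))
  have hd : ∀ p, D A (B) (π p) = ∑ j, π (pderiv j p) • dx j := by
    intro p
    induction p using MvPolynomial.induction_on with
    | C r =>
      rw [← algebraMap_eq, AlgHom.commutes, Derivation.map_algebraMap]
      refine (Finset.sum_eq_zero fun j _ => ?_).symm
      rw [Derivation.map_algebraMap, map_zero]
      exact zero_smul (B) (dx j)
    | add p q hp hq =>
      rw [map_add, map_add, hp, hq, ← Finset.sum_add_distrib]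
      refine Finset.sum_congr rfl fun j _ => ?_
      rw [map_add, map_add]
      exact (add_smul (π (pderiv j p)) (π (pderiv j q)) (dx j)).symm
    | mul_X p i hp =>
      rw [map_mul, Derivation.leibniz, hp]
      have : ∀ j, π (pderiv j (p * X i)) • dx j =
          π p • (if j = i then dx j else 0) + π (X i) • π (pderiv j p) • dx j := by
        intro j
        rw [Derivation.leibniz, smul_eq_mul, smul_eq_mul, map_add, map_mul, map_mul]
        refine (add_smul (π p * π (pderiv j (X i))) (π (X i) * π (pderiv j p)) (dx j)).trans ?_
        refine congrArg₂ (· + ·) ((mul_smul _ _ _).trans (congrArg (π p • ·) ?_)) (mul_smul _ _ _)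
        rw [pderiv_X, Pi.single_apply]
        by_cases h : j = i
        · subst h
          rw [if_pos rfl, if_pos rfl, map_one]
          exact one_smul (B) (dx j)
        · rw [if_neg h, if_neg (fun e => h e.symm), map_zero]
          exact zero_smul (B) (dx j)
      refine Eq.trans ?_ (Finset.sum_congr rfl fun j _ => this j).symm
      rw [Finset.sum_add_distrib, Finset.smul_sum]
      refine congrArg₂ (· + ·) ?_ rfl
      rw [Finset.sum_eq_single i (fun b _ hb => by rw [if_neg hb]; exact smul_zero (π p))
        (fun h => absurd (Finset.mem_univ i) h), if_pos rfl]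
  refine ideal_zero_eq dx J ?_ (fun i => ?_) fun v hv => ?_
  · refine top_unique ((span_range_derivation A _).symm.trans_le (Submodule.span_le.2 ?_))
    rintro _ ⟨y, rfl⟩
    obtain ⟨p, rfl⟩ := hb y
    rw [SetLike.mem_coe, hd]
    exact Submodule.sum_mem _ fun j _ =>
      Submodule.smul_mem _ _ (Submodule.subset_span (Set.mem_range_self j))
  · refine (hd (f i)).symm.trans ?_
    rw [show π (f i) = 0 from hker.ge (Ideal.subset_span (Set.mem_range_self i)), map_zero]
  · let N : Submodule (B) (Fin n → B) :=
      LinearMap.range (Matrix.vecMulLinear J)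
    let g : MvPolynomial (Fin n) A →ₗ[A] (Fin n → B) ⧸ N :=
      (N.mkQ.restrictScalars A).comp
        (LinearMap.pi fun j => π.toLinearMap.comp (pderiv j).toLinearMap)
    have hgmul : ∀ p q, g (p * q) = π p • g q + π q • g p := by
      intro p q
      let w : MvPolynomial (Fin n) A → Fin n → B :=
        fun r j => π (pderiv j r)
      change N.mkQ (w (p * q)) = π p • N.mkQ (w q) + π q • N.mkQ (w p)
      rw [← map_smul, ← map_smul, ← map_add]
      congr 1
      funext j
      change π (pderiv j (p * q)) = π p * π (pderiv j q) + π q * π (pderiv j p)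
      rw [← map_mul, ← map_mul, ← map_add, Derivation.leibniz]
      rfl
    have hgI : I.restrictScalars A ≤ LinearMap.ker g := by
      intro p hp
      change p ∈ Ideal.span (Set.range f) at hp
      rw [LinearMap.mem_ker]
      induction hp using Submodule.span_induction with
      | mem x hx =>
        obtain ⟨i, rfl⟩ := hx
        exact (Submodule.Quotient.mk_eq_zero N).2 ⟨Pi.single i 1, Matrix.single_one_vecMul i J⟩
      | zero => exact map_zero g
      | add x y _ _ h h' => rw [map_add, h, h', add_zero]
      | smul c x hx h =>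
        rw [smul_eq_mul, hgmul, h, show π x = 0 from hker.ge hx]
        rw [show π c • (0 : (Fin n → B) ⧸ N) = 0 from smul_zero (π c),
          show (0 : B) • g c = 0 from
            zero_smul (B) (g c), add_zero]
    choose lift hlift using hb
    have hgl : ∀ p p', π p = π p' → g p = g p' := fun p p' h => by
      rw [← sub_eq_zero, ← map_sub]
      exact LinearMap.mem_ker.1 (hgI (hker.le (show π (p - p') = 0 by rw [map_sub, h, sub_self])))
    let gB : B →ₗ[A] (Fin n → B) ⧸ N :=
      { toFun := fun a => g (lift a)
        map_add' := fun a a' => by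
          rw [← map_add]
          exact hgl _ _ (by simp [π, hlift])
        map_smul' := fun c a => by
          rw [RingHom.id_apply, ← map_smul]
          exact hgl _ _ (by simp [π, hlift]) }
    have hgB : ∀ p, gB (π p) = g p := fun p => hgl _ _ (hlift _)
    let δ : Derivation A B ((Fin n → B) ⧸ N) :=
      Derivation.mk' gB fun a a' => by
        conv_lhs => rw [← hlift a, ← hlift a', ← map_mul]
        rw [hgB, hgmul]
        conv_rhs => rw [← hlift a, ← hlift a']
        rw [hgB, hgB]
    have := congrArg δ.liftKaehlerDifferential hv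
    rw [map_sum, map_zero] at this
    have hδ : ∀ j, δ.liftKaehlerDifferential (dx j) = N.mkQ (Pi.single j 1) := fun j => by
      rw [Derivation.liftKaehlerDifferential_comp_D]
      refine (hgB (X j)).trans ?_
      refine congrArg N.mkQ (funext fun k => ?_)
      change π (pderiv k (X j)) = _
      rw [pderiv_X, Pi.single_apply, Pi.single_apply, apply_ite π, map_one, map_zero]
      simp only [eq_comm (a := j)]
    simp only [map_smul, hδ] at this
    simp only [← map_smul, ← map_sum] at this
    rw [Submodule.mkQ_apply, Submodule.Quotient.mk_eq_zero] at this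
    obtain ⟨c, hc⟩ := this
    exact ⟨c, hc.trans (pi_eq_sum_univ' v).symm⟩


/-- The Kähler different of `A[x]/(f)` is generated by the Jacobian determinant. -/
theorem kaehlerDifferent_eq :
    Fitt.ideal (MvPolynomial (Fin n) A ⧸ Ideal.span (Set.range f))
      (KaehlerDifferential A (MvPolynomial (Fin n) A ⧸ Ideal.span (Set.range f))) 0 =
      Ideal.span {Ideal.Quotient.mk (Ideal.span (Set.range f))
        (Matrix.det (Matrix.of fun i j : Fin n => pderiv j (f i)))} := by
  let I := Ideal.span (Set.range f)
  have he : ∀ p, aeval (fun j => Ideal.Quotient.mk I (X j)) p = Ideal.Quotient.mkₐ A I p := fun p =>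
    congrArg (· p) (algHom_ext (f := aeval fun j => Ideal.Quotient.mk I (X j))
      (g := Ideal.Quotient.mkₐ A I) fun i => aeval_X _ i)
  rw [kaehlerDifferent_eq_of_presentation A f (fun j => Ideal.Quotient.mk I (X j))
    (fun y => by
      obtain ⟨p, rfl⟩ := Ideal.Quotient.mk_surjective y
      exact ⟨p, he p⟩)
    (by ext p; rw [RingHom.mem_ker, he]; exact Ideal.Quotient.eq_zero_iff_mem), RingHom.map_det]
  refine congrArg (fun J => Ideal.span {Matrix.det J}) ?_
  ext i j
  exact he _

end

end Groth.Agent.NoetherDiff.SqPres
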